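import Groth.Agent.Lib.LocProp.RegularSmooth
import Mathlib.AlgebraicGeometry.Morphisms.Smooth
import Mathlib.AlgebraicGeometry.Noetherian
import Mathlib.AlgebraicGeometry.FunctionField

/-!
# Generic smoothness

* `formallySmooth_of_regular_essFiniteType`: regular local rings essentially of finite type over
  a perfect field are formally smooth.
* `genericPoint_mem_smoothLocus`: generic smoothness on the source.
* `smooth_smoothLocus_ι_comp`.
-/

universe u

open CategoryTheory AlgebraicGeometry

namespace GrothLib.GenericSmooth

theorem formallySmooth_of_regular_essFiniteType (K R : Type u) [Field K] [PerfectField K] [CommRing R]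
    [Algebra K R] [IsRegularLocalRing R] [Algebra.EssFiniteType K R] : Algebra.FormallySmooth K R := by
  let S := Algebra.EssFiniteType.subalgebra K R
  let m := IsLocalRing.maximalIdeal R
  haveI : IsLocalization.AtPrime R m := IsLocalization.self fun x hx => by
    by_contra h
    exact hx h
  haveI : IsLocalization.AtPrime R (m.comap (algebraMap S R)) :=
    IsLocalization.isLocalization_isLocalization_atPrime_isLocalization
      (Algebra.EssFiniteType.submonoid K R) R m
  let q : Ideal S := m.comap (algebraMap S R)
  let e : Localization.AtPrime q ≃ₐ[S] R := IsLocalization.algEquiv q.primeCompl _ _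
  haveI : IsRegularLocalRing (Localization.AtPrime q) := IsRegularLocalRing.of_ringEquiv e.toRingEquiv.symm
  haveI : Algebra.IsSmoothAt K q := GrothLib.LocProp.isSmoothAt_of_isRegularLocalRing_of_perfectField q
  exact Algebra.FormallySmooth.of_equiv (e.restrictScalars K)

/-- Over a field-like point with perfect residue field a regular point is smooth. -/
theorem mem_smoothLocus_of_regular {X Y : Scheme.{u}} (f : X ⟶ Y) [LocallyOfFinitePresentation f] (x : X)
    (hfld : IsField (Y.presheaf.stalk (f x)))
    (hperf : letI := hfld.toField; PerfectField (Y.presheaf.stalk (f x)))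
    [IsRegularLocalRing (X.presheaf.stalk x)] : x ∈ f.smoothLocus := by
  have := LocallyOfFiniteType.stalkMap f x
  rw [Scheme.Hom.mem_smoothLocus]
  algebraize [(f.stalkMap x).hom]
  letI := hfld.toField
  exact formallySmooth_of_regular_essFiniteType _ _

theorem perfectField_of_charZero {R : Type u} [CommRing R] (h : IsField R) [CharZero R] :
    letI := h.toField; PerfectField R := by
  letI := h.toField
  exact PerfectField.ofCharZero

/-- Generic smoothness on the source in characteristic zero. -/
theorem genericPoint_mem_smoothLocus {X Y : Scheme.{u}} [IsIntegral X] [IsIntegral Y] (f : X ⟶ Y)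
    [LocallyOfFinitePresentation f] (h : f (genericPoint X) = genericPoint Y) [CharZero Y.functionField] :
    genericPoint X ∈ f.smoothLocus := by
  have hf : IsField (Y.presheaf.stalk (f (genericPoint X))) := by
    rw [h]; exact Field.toIsField Y.functionField
  haveI : CharZero (Y.presheaf.stalk (f (genericPoint X))) :=
    charZero_of_injective_ringHom (f := (Y.presheaf.stalkCongr (.of_eq h.symm)).hom.hom)
      (ConcreteCategory.bijective_of_isIso (Y.presheaf.stalkCongr (.of_eq h.symm)).hom).1
  haveI : IsRegularLocalRing (X.presheaf.stalk (genericPoint X)) :=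
    (inferInstance : IsRegularLocalRing X.functionField)
  exact mem_smoothLocus_of_regular f _ hf (perfectField_of_charZero hf)

theorem smooth_smoothLocus_ι_comp {X Y : Scheme.{u}} (f : X ⟶ Y) [LocallyOfFinitePresentation f] :
    Smooth (f.smoothLocus.ι ≫ f) := by
  rw [← Scheme.Hom.smoothLocus_eq_top_iff, ← Scheme.Hom.preimage_smoothLocus_eq, Scheme.Opens.ι_preimage_self]

theorem charZero_functionField {k : Type u} [Field k] [CharZero k] {Y : Scheme.{u}} [IsIntegral Y]
    (q : Y ⟶ Spec (CommRingCat.of k)) : CharZero Y.functionField :=
  charZero_of_injective_ringHom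
    (f := ((Scheme.ΓSpecIso (CommRingCat.of k)).inv ≫ q.appTop ≫ Y.presheaf.germ ⊤ (genericPoint Y) trivial).hom)
    (RingHom.injective _)

theorem map_genericPoint_of_denseRange {X Y : Scheme.{u}} [IsIntegral X] [IsIntegral Y] (f : X ⟶ Y)
    (hdom : DenseRange f.base) : f (genericPoint X) = genericPoint Y := by
  have h1 := (genericPoint_spec X).image f.base.hom.continuous
  rw [Set.image_univ, hdom.closure_range] at h1
  exact h1.eq (genericPoint_spec Y)

end GrothLib.GenericSmooth
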