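import Groth.Agent.Lib.GenericSmooth.Basic
import Groth.Agent.Lib.DimCut.Product
import Groth.Agent.Lib.Altitude.Scheme
import Mathlib

/-!
# The relative dimension at the generic point of a smooth morphism is the transcendence degree
-/

universe u

open CategoryTheory AlgebraicGeometry TensorProduct

namespace GrothLib.GenericSmooth

theorem trdeg_of_isStandardSmooth (m : ℕ) (A B : Type u) [CommRing A] [IsDomain A] [CommRing B] [IsDomain B]
    [Algebra A B] [FaithfulSMul A B] [Algebra.IsStandardSmoothOfRelativeDimension m A B] :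
    Algebra.trdeg A B = m := by
  let K := FractionRing A
  letI : Algebra B (K ⊗[A] B) := Algebra.TensorProduct.rightAlgebra
  let M := Algebra.algebraMapSubmonoid B (nonZeroDivisors A)
  haveI hloc : IsLocalization M (K ⊗[A] B) := IsLocalization.tensorRight _ _
  have hM : M ≤ nonZeroDivisors B := by
    rintro _ ⟨a, ha, rfl⟩
    exact mem_nonZeroDivisors_of_ne_zero fun h => nonZeroDivisors.ne_zero ha
      (FaithfulSMul.algebraMap_injective A B (h.trans (map_zero _).symm))
  haveI : IsDomain (K ⊗[A] B) := IsLocalization.isDomain_of_le_nonZeroDivisors _ (M := M) hM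
  haveI : FaithfulSMul B (K ⊗[A] B) :=
    (faithfulSMul_iff_algebraMap_injective _ _).2 (IsLocalization.injective _ hM)
  haveI : Algebra.IsAlgebraic B (K ⊗[A] B) := IsLocalization.isAlgebraic _ M
  haveI : Algebra.IsAlgebraic A K := IsLocalization.isAlgebraic K (nonZeroDivisors A)
  haveI : IsScalarTower A B (K ⊗[A] B) := IsScalarTower.of_algebraMap_eq fun a => by
    show algebraMap A (K ⊗[A] B) a = (1 : K) ⊗ₜ algebraMap A B a
    rw [Algebra.algebraMap_eq_smul_one a, Algebra.algebraMap_eq_smul_one (A := B) a,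
      TensorProduct.tmul_smul]
    rfl
  rw [GrothLib.Altitude.trdeg_congr_algebraic (A := A) (A' := K) (B := B) (B' := K ⊗[A] B)]
  haveI : Algebra.IsStandardSmoothOfRelativeDimension m K (K ⊗[A] B) := inferInstance
  haveI : Algebra.IsStandardSmooth K (K ⊗[A] B) := Algebra.IsStandardSmoothOfRelativeDimension.isStandardSmooth m
  obtain ⟨d, htr, hd⟩ := GrothLib.Dim.exists_nat_trdeg_eq_and_ringKrullDim_eq K (K ⊗[A] B)
  rw [GrothLib.DimCut.ringKrullDim_of_isStandardSmooth (K := K) m] at hd
  rw [htr]
  exact_mod_cast hd.symm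

/-- At the generic point a smooth morphism has the transcendence degree as its relative dimension. -/
theorem exists_open_smoothOfRelativeDimension {X Y : Scheme.{u}} [IsIntegral X] [IsIntegral Y] (f : X ⟶ Y)
    [LocallyOfFinitePresentation f] (h : f (genericPoint X) = genericPoint Y)
    (hsm : genericPoint X ∈ f.smoothLocus) :
    ∃ (m : ℕ) (U : X.Opens), (U : Set X).Nonempty ∧ SmoothOfRelativeDimension m (U.ι ≫ f) ∧
      @Algebra.trdeg (Y.presheaf.stalk (f (genericPoint X))) X.functionField _ _
        (f.stalkMap (genericPoint X)).hom.toAlgebra = m := by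
  haveI := smooth_smoothLocus_ι_comp f
  let W := f.smoothLocus
  obtain ⟨U, hU, V, hV, hx, e, hstd⟩ := Smooth.exists_isStandardSmooth (W.ι ≫ f) ⟨genericPoint X, hsm⟩
  let V' : X.Opens := W.ι ''ᵁ V
  have hV' : IsAffineOpen V' := hV.image_of_isOpenImmersion _
  have hηV' : genericPoint X ∈ V' := ⟨⟨genericPoint X, hsm⟩, hx, rfl⟩
  have e' : V' ≤ f ⁻¹ᵁ U := by
    rintro _ ⟨z, hz, rfl⟩
    exact e hz
  have hstd' : (f.appLE U V' e').hom.IsStandardSmooth := by
    have key : (W.ι ≫ f).appLE U V e = f.appLE U V' e' ≫ (W.ι.appIso V).hom := by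
      rw [Scheme.Hom.appIso_hom', Scheme.Hom.appLE_comp_appLE]
    have h2 : f.appLE U V' e' = (W.ι ≫ f).appLE U V e ≫ (W.ι.appIso V).inv := by
      rw [key, Category.assoc, Iso.hom_inv_id, Category.comp_id]
    rw [h2, CommRingCat.hom_comp]
    exact RingHom.isStandardSmooth_respectsIso.1 _ (W.ι.appIso V).symm.commRingCatIsoToRingEquiv hstd
  algebraize [(f.appLE U V' e').hom]
  obtain ⟨ι, σ, hσ, hι, ⟨P⟩⟩ := Algebra.IsStandardSmooth.out (R := Γ(Y, U)) (S := Γ(X, V'))
  haveI hm : Algebra.IsStandardSmoothOfRelativeDimension P.dimension Γ(Y, U) Γ(X, V') := ⟨ι, σ, hσ, hι, P, rfl⟩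
  refine ⟨P.dimension, V', ⟨_, hηV'⟩, ?_, ?_⟩
  · rw [← Scheme.Hom.resLE_comp_ι f e']
    haveI : IsAffine V' := hV'
    haveI : IsAffine U := hU
    haveI : SmoothOfRelativeDimension P.dimension (f.resLE U V' e') := by
      rw [HasRingHomProperty.iff_of_isAffine (P := @SmoothOfRelativeDimension P.dimension)]
      exact ((RingHom.locally_respectsIso RingHom.isStandardSmoothOfRelativeDimension_respectsIso).arrow_mk_iso_iff
        (arrowResLEAppIso f U V' e')).mpr
        (RingHom.locally_of RingHom.isStandardSmoothOfRelativeDimension_respectsIso _ hm)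
    exact inferInstanceAs (SmoothOfRelativeDimension (P.dimension + 0) _)
  · haveI : Nonempty V' := ⟨⟨_, hηV'⟩⟩
    haveI : Nonempty U := ⟨⟨_, e' hηV'⟩⟩
    haveI : IsDomain Γ(X, V') := inferInstance
    haveI : IsDomain Γ(Y, U) := inferInstance
    letI := TopCat.Presheaf.algebra_section_stalk Y.presheaf (U := U) ⟨f (genericPoint X), e' hηV'⟩
    haveI := hU.isLocalization_stalk ⟨f (genericPoint X), e' hηV'⟩
    have hfld : IsField (Y.presheaf.stalk (f (genericPoint X))) := by
      rw [h]; exact Field.toIsField Y.functionField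
    letI := hfld.toField
    let a := (Y.presheaf.germ U (f (genericPoint X)) (e' hηV')).hom
    let b := (X.presheaf.germ V' (genericPoint X) hηV').hom
    have ha : Function.Injective a := germ_injective_of_isIntegral Y (x := f (genericPoint X)) (e' hηV')
    have hb : Function.Injective b := germ_injective_of_isIntegral X (x := genericPoint X) hηV'
    have hc : (f.stalkMap (genericPoint X)).hom.comp a = b.comp (algebraMap Γ(Y, U) Γ(X, V')) := by
      show _ = b.comp (f.appLE U V' e').hom
      simp only [a, b, ← CommRingCat.hom_comp]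
      rw [f.germ_stalkMap, Scheme.Hom.appLE, Category.assoc, X.presheaf.germ_res']
    haveI : FaithfulSMul Γ(Y, U) Γ(X, V') := by
      refine (faithfulSMul_iff_algebraMap_injective _ _).2 fun p q hpq => ?_
      refine ha (RingHom.injective (f.stalkMap (genericPoint X)).hom ?_)
      exact ((RingHom.congr_fun hc p).trans (congrArg b hpq)).trans (RingHom.congr_fun hc q).symm
    rw [← trdeg_of_isStandardSmooth P.dimension Γ(Y, U) Γ(X, V')]
    refine (GrothLib.Altitude.trdeg_congr_hom (B' := X.functionField) (f.stalkMap (genericPoint X)).hom a b hc ha hb ?_ ?_).symm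
    · intro z
      obtain ⟨⟨r, s⟩, hrs⟩ := IsLocalization.surj (hU.primeIdealOf ⟨f (genericPoint X), e' hηV'⟩).asIdeal.primeCompl z
      exact ⟨r, s, (IsLocalization.map_units _ s).ne_zero, hrs⟩
    · intro z
      haveI := hV'.isLocalization_stalk ⟨genericPoint X, hηV'⟩
      letI := TopCat.Presheaf.algebra_section_stalk X.presheaf (U := V') ⟨genericPoint X, hηV'⟩
      obtain ⟨⟨r, s⟩, hrs⟩ := IsLocalization.surj (hV'.primeIdealOf ⟨genericPoint X, hηV'⟩).asIdeal.primeCompl z
      exact ⟨r, s, (IsLocalization.map_units _ s).ne_zero, hrs⟩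

end GrothLib.GenericSmooth
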